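import Mathlib.RingTheory.Flat.Basic
import Mathlib.RingTheory.Flat.Tensor
import Mathlib.Algebra.Module.Torsion.Basic
import Mathlib.RingTheory.TensorProduct.Free
import Mathlib.RingTheory.FiniteType
import Mathlib.RingTheory.Filtration
import Mathlib.RingTheory.Localization.AtPrime.Basic
import Mathlib.LinearAlgebra.Dual.Lemmas
import Groth.Agent.L25.GeomIrred

/-!
Elements of `R ⊗ₖ A` with a unit coefficient, for a domain `A` over an algebraically closed field:
they are nonzerodivisors with flat cokernel.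
-/

set_option autoImplicit false
universe u

open TensorProduct

namespace Groth.L02.RelDiv

variable {k : Type u} [Field k]
variable {A : Type u} [CommRing A] [Algebra k A]
variable {ι : Type u} (b : Module.Basis ι k A)

section basics

variable {R S : Type u} [CommRing R] [Algebra k R] [CommRing S] [Algebra k S]

/-- Coefficients in a fixed basis. -/
noncomputable def cf (x : R ⊗[k] A) : ι →₀ R := (Algebra.TensorProduct.basis R b).repr x

noncomputable def bc (σ : R →ₐ[k] S) : R ⊗[k] A →ₐ[k] S ⊗[k] A :=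
  Algebra.TensorProduct.map σ (AlgHom.id k A)

theorem cf_bc (σ : R →ₐ[k] S) (x : R ⊗[k] A) (i : ι) : cf b (bc σ x) i = σ (cf b x i) := by
  induction x using TensorProduct.induction_on with
  | zero => simp [cf]
  | tmul r a => simp [cf, bc, Algebra.TensorProduct.basis_repr_tmul]
  | add x y hx hy =>
    simp only [cf, map_add, Finsupp.add_apply] at hx hy ⊢
    rw [hx, hy]

theorem eq_zero_of_cf (x : R ⊗[k] A) (h : ∀ i, cf b x i = 0) : x = 0 :=
  (Algebra.TensorProduct.basis R b).repr.map_eq_zero_iff.mp (Finsupp.ext h)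

theorem eq_sum_cf (x : R ⊗[k] A) : x = (cf b x).sum fun i c => c ⊗ₜ[k] b i := by
  conv_lhs => rw [← (Algebra.TensorProduct.basis R b).linearCombination_repr x]
  rw [Finsupp.linearCombination_apply]
  exact Finsupp.sum_congr fun i _ => by simp [cf, TensorProduct.smul_tmul']

theorem bc_eq_zero (σ : R →ₐ[k] S) (x : R ⊗[k] A) : bc σ x = 0 ↔ ∀ i, σ (cf b x i) = 0 :=
  ⟨fun h i => by rw [← cf_bc b σ x i, h]; simp [cf], fun h => eq_zero_of_cf b _ fun i => by rw [cf_bc]; exact h i⟩

end basics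

variable [IsAlgClosed k] [IsDomain A]

/-- Krull intersection step. -/
theorem cf_mem_pow {R : Type u} [CommRing R] [Algebra k R] (m : Ideal R) [m.IsMaximal] (f g : R ⊗[k] A)
    (hf : ∃ i, cf b f i ∉ m) (hfg : f * g = 0) (n : ℕ) : ∀ i, cf b g i ∈ m ^ n := by
  classical
  letI := Ideal.Quotient.field m
  let π := bc (A := A) (Ideal.Quotient.mkₐ k m)
  haveI : IsDomain ((R ⧸ m) ⊗[k] A) := Groth.L25.GeomIrred.isDomain_tensorProduct
  have hπf : π f ≠ 0 := fun h => by
    obtain ⟨i, hi⟩ := hf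
    exact hi (Ideal.Quotient.eq_zero_iff_mem.mp ((bc_eq_zero b _ f).mp h i))
  induction n with
  | zero => simp
  | succ n ih =>
    intro i₀
    have key : ∀ ψ : Module.Dual (R ⧸ m) (↥(m ^ n) ⧸ (m • ⊤ : Submodule R ↥(m ^ n))), ψ ((m • ⊤ : Submodule R ↥(m ^ n)).mkQ ⟨cf b g i₀, ih i₀⟩) = 0 := by
      intro ψ
      let θ : ↥(m ^ n) →ₗ[R] R ⧸ m := (ψ.restrictScalars R).comp (m • ⊤ : Submodule R ↥(m ^ n)).mkQ
      let h : (R ⧸ m) ⊗[k] A := ∑ i ∈ (cf b g).support, θ ⟨_, ih i⟩ ⊗ₜ b i
      have hh : ∀ l, cf b h l = θ ⟨_, ih l⟩ := by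
        intro l
        simp only [cf, h, map_sum, Finsupp.finsetSum_apply, Algebra.TensorProduct.basis_repr_tmul,
          Finsupp.smul_apply, Finsupp.mapRange_apply, Module.Basis.repr_self, Finsupp.single_apply]
        rw [Finset.sum_eq_single l]
        · simp
        · intro i _ hil
          simp [hil]
        · intro hl
          have h0 : cf b g l = 0 := Finsupp.notMem_support_iff.mp hl
          have : (⟨cf b g l, ih l⟩ : ↥(m ^ n)) = 0 := Subtype.ext h0
          change θ ⟨cf b g l, ih l⟩ • _ = (0 : R ⧸ m)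
          rw [this, map_zero, zero_smul]
      have hzero : π f * h = 0 := by
        refine eq_zero_of_cf b _ fun l => ?_
        have e1 : f * g = ∑ i ∈ (cf b g).support, f * (cf b g i ⊗ₜ b i) := by
          conv_lhs => rw [eq_sum_cf b g, Finsupp.sum, Finset.mul_sum]
        have e2 : ∀ i, f * (cf b g i ⊗ₜ[k] b i) = cf b g i • (f * (1 ⊗ₜ b i)) := fun i => by
          rw [← mul_smul_comm, TensorProduct.smul_tmul', smul_eq_mul, mul_one]
        have e3 : ∀ i, π f * (θ ⟨_, ih i⟩ ⊗ₜ[k] b i) = θ ⟨_, ih i⟩ • (π (f * (1 ⊗ₜ b i))) := fun i => by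
          rw [map_mul, ← mul_smul_comm]
          congr 1
          simp [π, bc, TensorProduct.smul_tmul']
        have hmem : ∀ i, cf b g i * cf b (f * (1 ⊗ₜ b i)) l ∈ m ^ n := fun i => Ideal.mul_mem_right _ _ (ih i)
        have e4 : cf b (π f * h) l = θ (∑ i ∈ (cf b g).support, ⟨_, hmem i⟩) := by
          rw [map_sum, Finset.mul_sum]
          simp only [e3]
          rw [cf, map_sum, Finsupp.finsetSum_apply]
          refine Finset.sum_congr rfl fun i _ => ?_
          rw [map_smul, Finsupp.smul_apply, smul_eq_mul]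
          change θ ⟨_, ih i⟩ * cf b (π _) l = _
          rw [cf_bc, Ideal.Quotient.mkₐ_eq_mk,
            show (⟨_, hmem i⟩ : ↥(m ^ n)) = cf b (f * (1 ⊗ₜ b i)) l • ⟨cf b g i, ih i⟩ from
              Subtype.ext (mul_comm _ _), map_smul, Algebra.smul_def, mul_comm]
          rfl
        have e5 : (∑ i ∈ (cf b g).support, (⟨_, hmem i⟩ : ↥(m ^ n))) = 0 := by
          refine Subtype.ext ?_
          rw [Submodule.coe_sum, Submodule.coe_zero]
          have := congrArg (fun z => cf b z l)
            (((Finset.sum_congr rfl fun i _ => e2 i).symm.trans e1.symm).trans hfg)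
          simp only [cf, map_sum, map_smul, Finsupp.finsetSum_apply, Finsupp.smul_apply, smul_eq_mul,
            map_zero, Finsupp.zero_apply] at this
          exact this
        rw [e4, e5, map_zero]
      have h0 := (mul_eq_zero.mp hzero).resolve_left hπf
      rw [← show θ ⟨_, ih i₀⟩ = ψ ((m • ⊤ : Submodule R ↥(m ^ n)).mkQ ⟨cf b g i₀, ih i₀⟩) from rfl, ← hh i₀, h0]
      simp [cf]
    have := (Submodule.Quotient.mk_eq_zero (m • ⊤ : Submodule R ↥(m ^ n))).mp ((Module.forall_dual_apply_eq_zero_iff (R ⧸ m) _).mp key)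
    have h2 := Submodule.mem_map_of_mem (f := (m ^ n).subtype) this
    rw [Submodule.map_smul'', Submodule.map_top, Submodule.range_subtype] at h2
    rw [pow_succ']
    exact h2

theorem eq_zero_of_mul_local {R : Type u} [CommRing R] [Algebra k R] [IsNoetherianRing R] [IsLocalRing R]
    (f g : R ⊗[k] A) (hf : ∃ i, IsUnit (cf b f i)) (hfg : f * g = 0) : g = 0 := by
  refine eq_zero_of_cf b _ fun i => ?_
  have := Ideal.iInf_pow_eq_bot_of_isLocalRing _ (IsLocalRing.maximalIdeal.isMaximal R).ne_top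
  rw [← Ideal.mem_bot, ← this, Ideal.mem_iInf]
  exact fun n => cf_mem_pow b (IsLocalRing.maximalIdeal R) f g
    (hf.imp fun j hj h => (IsLocalRing.mem_maximalIdeal _).mp h hj) hfg n i

theorem eq_zero_of_mul_noetherian {R : Type u} [CommRing R] [Algebra k R] [IsNoetherianRing R]
    (f g : R ⊗[k] A) (hf : ∃ i, IsUnit (cf b f i)) (hfg : f * g = 0) : g = 0 := by
  refine eq_zero_of_cf b _ fun i => ?_
  refine eq_zero_of_localization (R := R) _ fun P hP => ?_
  haveI : IsNoetherianRing (Localization.AtPrime P) := IsLocalization.isNoetherianRing P.primeCompl _ inferInstance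
  let σ : R →ₐ[k] Localization.AtPrime P := IsScalarTower.toAlgHom k R _
  obtain ⟨j, hj⟩ := hf
  have := eq_zero_of_mul_local b (bc σ f) (bc σ g) ⟨j, by rw [cf_bc]; exact hj.map σ⟩
    (by rw [← map_mul, hfg, map_zero])
  exact (bc_eq_zero b σ g).mp this i

/-- An element with a unit coefficient is a nonzerodivisor. -/
theorem eq_zero_of_mul {R : Type u} [CommRing R] [Algebra k R]
    (f g : R ⊗[k] A) (hf : ∃ i, IsUnit (cf b f i)) (hfg : f * g = 0) : g = 0 := by
  classical
  obtain ⟨j, v, hv⟩ := hf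
  let s : Finset R := ((cf b f).frange ∪ (cf b g).frange) ∪ {(v : R), ((v⁻¹ : Rˣ) : R)}
  let R₀ := Algebra.adjoin k (s : Set R)
  haveI : Algebra.FiniteType k R₀ := (Subalgebra.fg_iff_finiteType _).mp ⟨s, rfl⟩
  haveI : IsNoetherianRing R₀ := Algebra.FiniteType.isNoetherianRing k R₀
  have lift : ∀ z : R ⊗[k] A, (∀ l, cf b z l ∈ R₀) → ∃ z₀ : R₀ ⊗[k] A, bc R₀.val z₀ = z := by
    intro z hz
    refine ⟨∑ l ∈ (cf b z).support, (⟨_, hz l⟩ : R₀) ⊗ₜ b l, ?_⟩
    conv_rhs => rw [eq_sum_cf b z]
    simp [bc, Finsupp.sum]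
  have hs : ∀ (z : R ⊗[k] A) (l), (cf b z).frange ⊆ s → cf b z l ∈ R₀ := by
    intro z l hz
    by_cases h0 : cf b z l = 0
    · rw [h0]; exact zero_mem _
    · exact Algebra.subset_adjoin (hz (Finsupp.mem_frange.mpr ⟨h0, l, rfl⟩))
  obtain ⟨f₀, hf₀⟩ := lift f fun l => hs f l fun x hx => by simp [s, hx]
  obtain ⟨g₀, hg₀⟩ := lift g fun l => hs g l fun x hx => by simp [s, hx]
  have hu : IsUnit (cf b f₀ j) := by
    refine isUnit_iff_exists_inv.mpr ⟨⟨((v⁻¹ : Rˣ) : R), Algebra.subset_adjoin (by simp [s])⟩, Subtype.ext ?_⟩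
    have := hv.symm
    rw [← hf₀, cf_bc] at this
    change ((cf b f₀ j : R₀) : R) * _ = 1
    rw [show ((cf b f₀ j : R₀) : R) = v from this]
    exact v.mul_inv
  have h0 : f₀ * g₀ = 0 := eq_zero_of_cf b _ fun l => Subtype.ext (by
    have := congrArg (fun z => cf b z l) (show bc R₀.val (f₀ * g₀) = 0 by rw [map_mul, hf₀, hg₀, hfg])
    simp only [cf_bc] at this
    exact this.trans (by simp [cf]))
  rw [← hg₀, eq_zero_of_mul_noetherian b f₀ g₀ ⟨j, hu⟩ h0, map_zero]

theorem mem_nonZeroDivisors_of_unit {R : Type u} [CommRing R] [Algebra k R] (f : R ⊗[k] A)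
    (hf : ∃ i, IsUnit (cf b f i)) : f ∈ nonZeroDivisors (R ⊗[k] A) :=
  mem_nonZeroDivisors_iff_right.mpr fun g hg => eq_zero_of_mul b f g hf (by rw [mul_comm]; exact hg)

/-- The quotient by an element with a unit coefficient is flat over the base. -/
theorem flat_quotient_of_unit {R : Type u} [CommRing R] [Algebra k R] (f : R ⊗[k] A)
    (hf : ∃ i, IsUnit (cf b f i)) : Module.Flat R ((R ⊗[k] A) ⧸ Ideal.span {f}) := by
  rw [Module.Flat.iff_rTensor_injective]
  intro I _
  haveI : Module.Free R (R ⊗[k] A) := Module.Free.of_basis (Algebra.TensorProduct.basis R b)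
  let B := R ⊗[k] A
  let μ : I ⊗[R] B →ₗ[R] B := (TensorProduct.lid R B).toLinearMap ∘ₗ I.subtype.rTensor B
  have hμ : Function.Injective μ := (TensorProduct.lid R B).injective.comp
    (Module.Flat.rTensor_preserves_injective_linearMap (M := B) I.subtype Subtype.val_injective)
  let σ : R →ₐ[k] R ⧸ I := Ideal.Quotient.mkₐ k I
  have hrange : ∀ y, bc σ (μ y) = 0 := fun y => by
    induction y using TensorProduct.induction_on with
    | zero => simp
    | add y z hy hz => rw [map_add, map_add, hy, hz, add_zero]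
    | tmul a x =>
      simp only [μ, LinearMap.comp_apply, LinearMap.rTensor_tmul, LinearEquiv.coe_coe, TensorProduct.lid_tmul,
        Submodule.subtype_apply]
      refine eq_zero_of_cf b _ fun i => ?_
      rw [cf_bc, cf, map_smul, Finsupp.smul_apply, smul_eq_mul, map_mul,
        show σ (a : R) = 0 from Ideal.Quotient.eq_zero_iff_mem.mpr a.2, zero_mul]
  have hker : ∀ z : B, bc σ z = 0 → ∃ y, μ y = z := fun z hz => by
    have hI : ∀ i, cf b z i ∈ I := fun i => Ideal.Quotient.eq_zero_iff_mem.mp ((bc_eq_zero b σ z).mp hz i)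
    refine ⟨∑ i ∈ (cf b z).support, (⟨_, hI i⟩ : I) ⊗ₜ[R] ((1 : R) ⊗ₜ[k] b i), ?_⟩
    conv_rhs => rw [eq_sum_cf b z]
    rw [map_sum, Finsupp.sum]
    refine Finset.sum_congr rfl fun i _ => ?_
    simp only [μ, LinearMap.comp_apply, LinearMap.rTensor_tmul, LinearEquiv.coe_coe, TensorProduct.lid_tmul,
      Submodule.subtype_apply]
    show cf b z i • ((1 : R) ⊗ₜ[k] b i : R ⊗[k] A) = cf b z i ⊗ₜ[k] b i
    rw [TensorProduct.smul_tmul', smul_eq_mul, mul_one]
  let q : B →ₗ[R] B ⧸ Ideal.span {f} := (Ideal.Quotient.mkₐ R (Ideal.span {f})).toLinearMap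
  have hq : Function.Surjective q := Ideal.Quotient.mk_surjective
  refine (injective_iff_map_eq_zero _).mpr fun x hx => ?_
  obtain ⟨y, rfl⟩ := LinearMap.lTensor_surjective I hq x
  have h1 : q (μ y) = 0 := by
    rw [show q (μ y) = TensorProduct.lid R _ (q.lTensor R (I.subtype.rTensor B y)) from ?_]
    · rw [← LinearMap.comp_apply, LinearMap.lTensor_comp_rTensor, ← LinearMap.rTensor_comp_lTensor,
        LinearMap.comp_apply, hx, map_zero]
    · clear hx
      induction y using TensorProduct.induction_on with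
      | zero => simp
      | add y z hy hz => simp only [map_add, hy, hz]
      | tmul a z => simp [μ]
  obtain ⟨c, hc⟩ : ∃ c, c * f = μ y := Ideal.mem_span_singleton'.mp (Ideal.Quotient.eq_zero_iff_mem.mp h1)
  obtain ⟨j, hj⟩ := hf
  have h2 : bc σ c = 0 := eq_zero_of_mul b (bc σ f) (bc σ c) ⟨j, by rw [cf_bc]; exact hj.map σ⟩
    (by rw [← map_mul, mul_comm, hc, hrange])
  obtain ⟨y', rfl⟩ := hker c h2
  let L : B →ₗ[R] B := LinearMap.mulRight R f
  have h3 : μ (L.lTensor I y') = μ y := by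
    rw [← hc]
    clear hc h2 hx h1
    induction y' using TensorProduct.induction_on with
    | zero => simp
    | add a c ha hb => rw [map_add, map_add, map_add, add_mul, ha, hb]
    | tmul a z => simp [μ, L]
  rw [← hμ h3, ← LinearMap.comp_apply, ← LinearMap.lTensor_comp,
    show q ∘ₗ L = 0 from LinearMap.ext fun z => Ideal.Quotient.eq_zero_iff_mem.mpr
      (Ideal.mul_mem_left _ z (Ideal.mem_span_singleton_self f)), LinearMap.lTensor_zero, LinearMap.zero_apply]

end Groth.L02.RelDiv
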